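import Mathlib.RingTheory.Invariant.Basic
import Mathlib.RingTheory.Ideal.GoingUp
import Mathlib.LinearAlgebra.LinearIndependent.Lemmas
import Mathlib.FieldTheory.Fixed

/-!
# Surjectivity of the trace and tame inertia
-/

universe u v

open Finset

namespace TameTraceLib

variable (B : Type u) [CommRing B] (Γ : Type v) [Group Γ] [Fintype Γ] [MulSemiringAction Γ B]

theorem sum_smul_eq (P : Ideal B) [DecidableEq (B →* B ⧸ P)] :
    ∃ S : Finset (B →* B ⧸ P), S.Nonempty ∧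
      ∀ b : B, Ideal.Quotient.mk P (∑ γ : Γ, γ • b) = (Nat.card (P.inertia Γ) : B ⧸ P) * ∑ ψ ∈ S, ψ b := by
  classical
  let φ : Γ → (B →* B ⧸ P) := fun γ =>
    (Ideal.Quotient.mk P).toMonoidHom.comp (MulSemiringAction.toRingHom Γ B γ).toMonoidHom
  have hφ : ∀ γ b, φ γ b = Ideal.Quotient.mk P (γ • b) := fun γ b => rfl
  have hfib : ∀ γ₀, (univ.filter fun γ => φ γ = φ γ₀).card = Nat.card (P.inertia Γ) := fun γ₀ => by
    rw [← Fintype.card_subtype, ← Nat.card_eq_fintype_card]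
    refine Nat.card_congr ((Equiv.mulRight γ₀⁻¹).subtypeEquiv fun γ => ?_)
    constructor
    · intro h x
      show (γ * γ₀⁻¹) • x - x ∈ P
      rw [← Ideal.Quotient.eq, mul_smul, ← hφ, h, hφ, smul_inv_smul]
    · intro h
      refine MonoidHom.ext fun b => ?_
      have h1 : (γ * γ₀⁻¹) • (γ₀ • b) - γ₀ • b ∈ P := h (γ₀ • b)
      rwa [← Ideal.Quotient.eq, mul_smul, inv_smul_smul] at h1
  refine ⟨univ.image φ, univ_nonempty.image φ, fun b => ?_⟩
  rw [map_sum, show ∑ γ : Γ, Ideal.Quotient.mk P (γ • b) = ∑ γ : Γ, φ γ b from rfl,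
    sum_comp (fun ψ : B →* B ⧸ P => ψ b) φ, mul_sum]
  refine sum_congr rfl fun ψ hψ => ?_
  obtain ⟨γ₀, -, rfl⟩ := mem_image.1 hψ
  rw [hfib, nsmul_eq_mul]

theorem card_inertia_ne_zero_of_trace {b : B} (hb : ∑ γ : Γ, γ • b = 1) (P : Ideal B) (hP : P.IsPrime) :
    ((Nat.card (P.inertia Γ) : ℕ) : B ⧸ P) ≠ 0 := fun h0 => by
  classical
  obtain ⟨S, -, hS⟩ := sum_smul_eq B Γ P
  have := hS b
  rw [hb, h0, zero_mul, map_one] at this
  exact one_ne_zero this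

theorem exists_prime_of_trace_ne_one (h : ∀ b : B, ∑ γ : Γ, γ • b ≠ 1) :
    ∃ P : Ideal B, P.IsPrime ∧ ∀ b : B, ∑ γ : Γ, γ • b ∈ P := by
  let A := FixedPoints.subring B Γ
  haveI : Algebra.IsInvariant A B Γ := ⟨fun b hb => ⟨⟨b, hb⟩, rfl⟩⟩
  haveI : Algebra.IsIntegral A B := Algebra.IsInvariant.isIntegral A B Γ
  have hfix : ∀ (b : B) (g : Γ), g • (∑ γ : Γ, γ • b) = ∑ γ : Γ, γ • b := fun b g => by
    rw [smul_sum]
    exact Fintype.sum_equiv (Equiv.mulLeft g) _ _ fun k => (mul_smul g k b).symm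
  let J : Ideal A :=
    { carrier := {a | ∃ b : B, ∑ γ : Γ, γ • b = a.1}
      zero_mem' := ⟨0, by simp⟩
      add_mem' := by
        rintro a a' ⟨b, hb⟩ ⟨b', hb'⟩
        exact ⟨b + b', by simp [smul_add, sum_add_distrib, hb, hb']⟩
      smul_mem' := by
        rintro c a ⟨b, hb⟩
        refine ⟨c.1 * b, ?_⟩
        show _ = c.1 * a.1
        rw [← hb, mul_sum]
        exact sum_congr rfl fun γ _ => by rw [smul_mul', c.2 γ] }
  have hJ : J ≠ ⊤ := fun e => by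
    obtain ⟨b, hb⟩ := (Ideal.eq_top_iff_one J).1 e
    exact h b hb
  obtain ⟨p, hp, hJp⟩ := Ideal.exists_le_maximal J hJ
  haveI := hp.isPrime
  have hker : (⊥ : Ideal B).comap (algebraMap A B) ≤ p := fun a ha => by
    have : a = 0 := Subtype.ext ha
    rw [this]; exact p.zero_mem
  obtain ⟨Q, -, hQ, hQc⟩ := Ideal.exists_ideal_over_prime_of_isIntegral p ⊥ hker
  refine ⟨Q, hQ, fun b => ?_⟩
  have : (⟨_, hfix b⟩ : A) ∈ p := hJp ⟨b, rfl⟩
  rw [← hQc] at this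
  exact this

theorem exists_trace_eq_one_iff :
    (∃ b : B, ∑ γ : Γ, γ • b = 1) ↔
      ∀ P : Ideal B, P.IsPrime → ((Nat.card (P.inertia Γ) : ℕ) : B ⧸ P) ≠ 0 := by
  classical
  refine ⟨fun ⟨b, hb⟩ => card_inertia_ne_zero_of_trace B Γ hb, fun h => ?_⟩
  by_contra hne
  obtain ⟨P, hP, htr⟩ := exists_prime_of_trace_ne_one B Γ fun b hb => hne ⟨b, hb⟩
  obtain ⟨S, ⟨ψ₀, hψ₀⟩, hS⟩ := sum_smul_eq B Γ P
  have hzero : ∑ ψ ∈ S, (Nat.card (P.inertia Γ) : B ⧸ P) • (ψ : B → B ⧸ P) = 0 := funext fun b => by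
    simp only [Finset.sum_apply, Pi.smul_apply, smul_eq_mul, ← mul_sum, Pi.zero_apply]
    rw [← hS, Ideal.Quotient.eq_zero_iff_mem]
    exact htr b
  exact h P hP (linearIndependent_iff'.1 (linearIndependent_monoidHom B (B ⧸ P)) S _ hzero ψ₀ hψ₀)

end TameTraceLib
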